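import Mathlib.GroupTheory.Sylow
import Mathlib.GroupTheory.Nilpotent
import Mathlib.GroupTheory.GroupAction.Quotient
import Cfsg.Agent.S0205

/-!
# Groups in which every non-trivial `p`-element has centraliser of order `|G|_p`

The Sylow `p`-subgroups of such a group are abelian.
-/

set_option autoImplicit false

namespace Cfsg.Agent.H44.ClassSizes

open scoped Pointwise commutatorElement

variable {H : Type*} [Group H] [Finite H] {p q s : ℕ}

/-- every non-trivial `p`-element has centraliser of order `q`, the full `p`-part of the group order -/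
structure CC (H : Type*) [Group H] (p q s : ℕ) : Prop where
  prime : p.Prime
  pow : ∃ f : ℕ, 0 < f ∧ q = p ^ f
  card : Nat.card H = q * s
  cop : ¬ p ∣ s
  cent : ∀ y : H, y ≠ 1 → (∃ k : ℕ, orderOf y = p ^ k) →
    Nat.card (Subgroup.centralizer ({y} : Set H)) = q

lemma CC.sylow_card [Fact p.Prime] (h : CC H p q s) (P : Sylow p H) : Nat.card P = q := by
  obtain ⟨f, hf, rfl⟩ := h.pow
  have hs : s ≠ 0 := fun e => h.cop (e ▸ dvd_zero p)
  rw [Sylow.card_eq_multiplicity, h.card, Nat.factorization_mul (pow_ne_zero _ h.prime.pos.ne') hs,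
    Finsupp.add_apply, Nat.factorization_pow, Finsupp.smul_apply, h.prime.factorization_self,
    Nat.factorization_eq_zero_of_not_dvd h.cop, smul_eq_mul, mul_one, add_zero]

lemma CC.exists_sylow [Fact p.Prime] (h : CC H p q s) {y : H} (hy : y ≠ 1)
    (hy' : ∃ k : ℕ, orderOf y = p ^ k) :
    ∃ P : Sylow p H, (P : Subgroup H) = Subgroup.centralizer ({y} : Set H) := by
  obtain ⟨f, hf, rfl⟩ := h.pow
  obtain ⟨P, hP⟩ := IsPGroup.exists_le_sylow (IsPGroup.of_card (n := f) (h.cent y hy hy'))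
  exact ⟨P, (Subgroup.eq_of_le_of_card_ge hP (by rw [h.cent y hy hy', h.sylow_card P])).symm⟩

lemma pow_of_mem_sylow [Fact p.Prime] {P : Sylow p H} {y : H} (hy : y ∈ (P : Subgroup H)) :
    ∃ k : ℕ, orderOf y = p ^ k := by
  obtain ⟨k, hk⟩ := IsPGroup.iff_orderOf.1 P.2 ⟨y, hy⟩
  exact ⟨k, by rw [← hk, Subgroup.orderOf_mk]⟩

/-- The order of an element is a power of `p` or prime to `p`. -/
lemma CC.pow_or_coprime (h : CC H p q s) (g : H) :
    (∃ k : ℕ, orderOf g = p ^ k) ∨ ¬ p ∣ orderOf g := by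
  haveI := Fact.mk h.prime
  by_cases hd : p ∣ orderOf g
  swap
  · exact Or.inr hd
  left
  obtain ⟨y, hy, hyg⟩ : ∃ y : H, orderOf y = p ∧ Commute g y :=
    ⟨g ^ (orderOf g / p), by
      rw [orderOf_pow_of_dvd (Nat.div_ne_zero_iff_of_dvd hd |>.2 ⟨(orderOf_pos g).ne', h.prime.pos.ne'⟩)
        (Nat.div_dvd_of_dvd hd), Nat.div_div_self hd (orderOf_pos g).ne'], (Commute.refl g).pow_right _⟩
  have hy1 : y ≠ 1 := fun e => h.prime.one_lt.ne' (by rw [← hy, e, orderOf_one])
  obtain ⟨P, hP⟩ := h.exists_sylow hy1 ⟨1, by rw [hy, pow_one]⟩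
  exact pow_of_mem_sylow (P := P) (hP ▸ Subgroup.mem_centralizer_singleton_iff.2 hyg.eq)

lemma exists_normalizer_of_lt [Fact p.Prime] {P : Sylow p H} {D : Subgroup H}
    (hD : D < (P : Subgroup H)) :
    ∃ g ∈ (P : Subgroup H), g ∉ D ∧ g ∈ Subgroup.normalizer (D : Set H) := by
  haveI : Group.IsNilpotent (P : Subgroup H) := P.2.isNilpotent
  have hlt : D.subgroupOf (P : Subgroup H) < ⊤ :=
    lt_top_iff_ne_top.2 fun e => hD.not_ge (Subgroup.subgroupOf_eq_top.1 e)
  obtain ⟨g, hg, hgD⟩ := SetLike.exists_of_lt (Group.normalizerCondition_of_isNilpotent _ hlt)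
  refine ⟨g.1, g.2, hgD, Subgroup.mem_normalizer_iff.2 fun x => ?_⟩
  constructor
  · intro hx
    exact (Subgroup.mem_normalizer_iff.1 hg ⟨x, hD.le hx⟩).1 hx
  · intro hx
    have hxP : x ∈ (P : Subgroup H) := by
      have := (P : Subgroup H).mul_mem ((P : Subgroup H).mul_mem ((P : Subgroup H).inv_mem g.2)
        (hD.le hx)) g.2
      simpa [mul_assoc] using this
    exact (Subgroup.mem_normalizer_iff.1 hg ⟨x, hxP⟩).2 hx

/-- The contradiction from a non-trivial group of automorphisms `L` of the abelian `p`-group `V`. -/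
lemma false_of_action {V : Type*} [CommGroup V] [Finite V] [Nontrivial V] [Fact p.Prime]
    (hV : IsPGroup p V) (L : Subgroup (MulAut V))
    (hord : ∀ l ∈ L, (∃ k : ℕ, orderOf l = p ^ k) ∨ ¬ p ∣ orderOf l)
    (hfix : ∀ l ∈ L, ¬ p ∣ orderOf l → l ≠ 1 → ∀ v : V, l v = v → v = 1)
    (htau : ∀ l ∈ L, orderOf l = p → ∀ v : V, ∏ i ∈ Finset.range p, (l ^ i) v = 1)
    (hcore : ∀ Q : Subgroup L, Q.Normal → IsPGroup p Q → Q = ⊥)
    (hw : ∃ l ∈ L, orderOf l = p) : False := by
  classical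
  obtain ⟨w, hwL, hwp⟩ := hw
  have hp := (Fact.out : p.Prime)
  have hmix : ∀ k ∈ L, k ≠ 1 → ¬ p ∣ orderOf k → ∀ i : ℕ, ¬ p ∣ i → ¬ Commute k (w ^ i) := by
    intro k hk hk1 hkp i hi hc
    have hwi : orderOf (w ^ i) = p := by
      rw [Nat.Coprime.orderOf_pow (hwp ▸ hp.coprime_iff_not_dvd.2 hi), hwp]
    have hmul := hc.orderOf_mul_eq_mul_orderOf_of_coprime
      (by rw [hwi]; exact (hp.coprime_iff_not_dvd.2 hkp).symm)
    rw [hwi] at hmul
    rcases hord _ (mul_mem hk (pow_mem hwL i)) with ⟨j, hj⟩ | hj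
    · rw [hj] at hmul
      have : orderOf k ∣ p ^ j := ⟨p, hmul⟩
      obtain ⟨j', -, hj'⟩ := (Nat.dvd_prime_pow hp).1 this
      rcases Nat.eq_zero_or_pos j' with rfl | hpos
      · exact hk1 (orderOf_eq_one_iff.1 (by simpa using hj'))
      · exact hkp (hj' ▸ dvd_pow_self p hpos.ne')
    · exact hj (hmul ▸ dvd_mul_left p _)
  -- the group has odd order
  have hodd : Odd (Nat.card L) := by
    by_contra hev
    haveI := Fact.mk Nat.prime_two
    obtain ⟨⟨t, htL⟩, ht⟩ := exists_prime_orderOf_dvd_card' (G := L) 2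
      (even_iff_two_dvd.1 (Nat.not_odd_iff_even.1 hev))
    rw [Subgroup.orderOf_mk] at ht
    have hinv : ∀ v : V, t v = v⁻¹ := by
      intro v
      have key : v * t v = 1 := by
        by_cases hp2 : p = 2
        · subst hp2
          simpa [Finset.prod_range_succ] using htau t htL ht v
        · refine hfix t htL (fun hd => hp2 ?_) (fun e => by simp [e] at ht) _ ?_
          · rw [ht] at hd; exact (Nat.prime_dvd_prime_iff_eq hp Nat.prime_two).1 hd
          · have h2 : t (t v) = v := by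
              rw [← MulAut.mul_apply, ← pow_two, ← ht, pow_orderOf_eq_one]; rfl
            rw [map_mul, h2, mul_comm]
      exact eq_inv_of_mul_eq_one_right key
    have hcen : ∀ l : MulAut V, Commute t l := fun l => MulEquiv.ext fun v => by
      simp only [MulAut.mul_apply, hinv, map_inv]
    by_cases hp2 : p = 2
    · subst hp2
      have hn : (Subgroup.zpowers (⟨t, htL⟩ : L)).Normal := by
        refine ⟨fun n hn g => ?_⟩
        obtain ⟨j, rfl⟩ := hn
        have hc : Commute g (⟨t, htL⟩ : L) := Subtype.ext (hcen g.1).symm.eq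
        rw [(hc.zpow_right j).eq, mul_inv_cancel_right]
        exact Subgroup.zpow_mem _ (Subgroup.mem_zpowers _) j
      have h1 := hcore _ hn (IsPGroup.of_card (n := 1) (by
        rw [Nat.card_zpowers, Subgroup.orderOf_mk, ht, pow_one]))
      rw [Subgroup.zpowers_eq_bot] at h1
      simp [Subtype.ext_iff] at h1
      simp [h1] at ht
    · refine hmix t htL (fun e => by simp [e] at ht) (fun hd => hp2 ?_) 1 hp.not_dvd_one
        (by rw [pow_one]; exact hcen w)
      rw [ht] at hd; exact (Nat.prime_dvd_prime_iff_eq hp Nat.prime_two).1 hd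
  -- an abelian normal subgroup of order prime to `p`
  haveI : Group.IsSolvable L := Cfsg.Agent.S0205.result hodd
  haveI : Nontrivial L := ⟨⟨⟨w, hwL⟩, 1, fun e => by
    rw [Subtype.ext_iff] at e
    simp only [OneMemClass.coe_one] at e
    rw [e, orderOf_one] at hwp
    exact hp.one_lt.ne hwp⟩⟩
  obtain ⟨n, hn⟩ : Group.IsSolvable L := inferInstance
  have hex : ∃ n, derivedSeries L n = ⊥ := ⟨n, hn⟩
  obtain ⟨m, hm⟩ : ∃ m, Nat.find hex = m + 1 := by
    refine Nat.exists_eq_succ_of_ne_zero fun e => ?_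
    have := Nat.find_spec hex
    rw [e, derivedSeries_zero] at this
    exact top_ne_bot this
  set A := derivedSeries L m with hA
  have hA1 : A ≠ ⊥ := Nat.find_min hex (by omega)
  have hAc : ∀ a ∈ A, ∀ b ∈ A, Commute a b := by
    have h0 := Nat.find_spec hex
    rw [hm, derivedSeries_succ, ← hA] at h0
    intro a ha b hb
    have : ⁅a, b⁆ = 1 := Subgroup.mem_bot.1 (h0 ▸ Subgroup.commutator_mem_commutator ha hb)
    exact commutatorElement_eq_one_iff_mul_comm.1 this
  have hAp : ∀ a ∈ A, ¬ p ∣ orderOf a := by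
    intro a ha hd
    let Q : Subgroup L :=
      { carrier := {x | x ∈ A ∧ x ^ p = 1}
        one_mem' := ⟨one_mem _, one_pow _⟩
        mul_mem' := fun {x y} hx hy =>
          ⟨mul_mem hx.1 hy.1, by rw [(hAc x hx.1 y hy.1).mul_pow, hx.2, hy.2, one_mul]⟩
        inv_mem' := fun {x} hx => ⟨inv_mem hx.1, by rw [inv_pow, hx.2, inv_one]⟩ }
    have hQn : Q.Normal := ⟨fun x hx g => ⟨(derivedSeries_normal _ _).conj_mem x hx.1 g, by
      rw [conj_pow, hx.2, mul_one, mul_inv_cancel]⟩⟩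
    have hQ := hcore Q hQn (fun x => ⟨1, Subtype.ext (by rw [pow_one]; exact x.2.2)⟩)
    have hmem : a ^ (orderOf a / p) ∈ Q :=
      ⟨pow_mem ha _, by rw [← pow_mul, Nat.div_mul_cancel hd, pow_orderOf_eq_one]⟩
    rw [hQ, Subgroup.mem_bot] at hmem
    have := Nat.le_of_dvd (Nat.div_pos (Nat.le_of_dvd (orderOf_pos a) hd) hp.pos)
      (orderOf_dvd_of_pow_eq_one hmem)
    exact absurd (Nat.div_lt_self (orderOf_pos a) hp.one_lt) (by omega)
  haveI := Fintype.ofFinite A
  -- averaging over the Frobenius group `A ⟨w⟩`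
  let c : A → MulAut V := fun k => (k.1 : L).1
  have hc_mul : ∀ j k : A, c (j * k) = c j * c k := fun _ _ => rfl
  have hc_mem : ∀ k : A, c k ∈ L := fun k => (k.1 : L).2
  have hc_inj : Function.Injective c := Subtype.val_injective.comp Subtype.val_injective
  have hc_ord : ∀ k : A, ¬ p ∣ orderOf (c k) := fun k => by
    rw [show orderOf (c k) = orderOf (k.1 : L) from Subgroup.orderOf_coe _]
    exact hAp _ k.2
  obtain ⟨k0, hk0⟩ : ∃ k : A, k ≠ 1 := by
    obtain ⟨a, ha, ha1⟩ := (Subgroup.ne_bot_iff_exists_ne_one (H := A)).1 hA1 |>.elim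
      fun a ha => (⟨a.1, a.2, fun e => ha (Subtype.ext e)⟩ : ∃ a, a ∈ A ∧ a ≠ 1)
    exact ⟨⟨a, ha⟩, fun e => ha1 (congrArg Subtype.val e)⟩
  have hsum : ∀ u : V, ∏ k : A, c k u = 1 := by
    intro u
    refine hfix (c k0) (hc_mem k0) (hc_ord k0)
      (fun e => hk0 (hc_inj (e.trans (rfl : (1 : MulAut V) = c 1)))) _ ?_
    rw [map_prod]
    exact Fintype.prod_equiv (Equiv.mulLeft k0) _ _ fun k => rfl
  obtain ⟨v, hv⟩ := exists_ne (1 : V)
  have hL : ∀ i : ℕ, ∀ k : A, ∃ j : A, c j = w ^ i * c k * (w ^ i)⁻¹ := fun i k =>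
    ⟨⟨⟨w ^ i, pow_mem hwL i⟩ * k.1 * (⟨w ^ i, pow_mem hwL i⟩ : L)⁻¹,
      (derivedSeries_normal _ _).conj_mem _ k.2 _⟩, rfl⟩
  choose σ hσ using hL
  have hz : ∀ i ∈ Finset.range p, i ≠ 0 →
      ∏ k : A, (c k * w ^ i * c k⁻¹) v = 1 := by
    intro i hi hi0
    have hip : ¬ p ∣ i := fun hd =>
      absurd (Nat.le_of_dvd (Nat.pos_of_ne_zero hi0) hd) (by have := Finset.mem_range.1 hi; omega)
    have heq : ∀ k : A, c k * w ^ i * c k⁻¹ = c (k * σ i k⁻¹) * w ^ i := fun k => by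
      rw [hc_mul, hσ i]; group
    have hinj : Function.Injective fun k : A => k * σ i k⁻¹ := by
      intro a b hab
      simp only at hab
      have e := congrArg c hab
      rw [hc_mul, hc_mul, hσ i, hσ i] at e
      have hinv : ∀ k : A, c k⁻¹ = (c k)⁻¹ := fun k => rfl
      rw [hinv, hinv] at e
      by_contra hne
      refine hmix (c (b⁻¹ * a)) (hc_mem _) (fun e' => hne ?_) (hc_ord _) i hip ?_
      · have : b⁻¹ * a = 1 := hc_inj (e'.trans (rfl : (1 : MulAut V) = c 1))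
        exact (inv_mul_eq_one.1 this).symm
      · rw [hc_mul, hinv]
        have e2 := mul_right_cancel (show c a * (w ^ i * (c a)⁻¹) * (w ^ i)⁻¹ =
            c b * (w ^ i * (c b)⁻¹) * (w ^ i)⁻¹ by simpa [mul_assoc] using e)
        exact (calc (c b)⁻¹ * c a * w ^ i
            = (c b)⁻¹ * (c a * (w ^ i * (c a)⁻¹)) * c a := by group
          _ = (c b)⁻¹ * (c b * (w ^ i * (c b)⁻¹)) * c a := by rw [e2]
          _ = w ^ i * ((c b)⁻¹ * c a) := by group)
    calc ∏ k : A, (c k * w ^ i * c k⁻¹) v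
        = ∏ k : A, c (k * σ i k⁻¹) ((w ^ i) v) := Finset.prod_congr rfl fun k _ => by
          rw [heq k]; rfl
      _ = ∏ k : A, c k ((w ^ i) v) :=
          Fintype.prod_equiv (Equiv.ofBijective _ (Finite.injective_iff_bijective.1 hinj)) _ _
            fun k => rfl
      _ = 1 := hsum _
  have htot : ∏ i ∈ Finset.range p, ∏ k : A, (c k * w ^ i * c k⁻¹) v = 1 := by
    rw [Finset.prod_comm]
    refine Finset.prod_eq_one fun k _ => ?_
    simp only [MulAut.mul_apply]
    rw [← map_prod, htau w hwL hwp, map_one]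
  rw [Finset.prod_eq_single 0 hz (fun h0 => absurd (Finset.mem_range.2 hp.pos) h0)] at htot
  have hpow : v ^ Fintype.card A = 1 := by
    rw [← Finset.card_univ, ← Finset.prod_const, ← htot]
    refine Finset.prod_congr rfl fun k _ => ?_
    rw [pow_zero, mul_one, ← hc_mul, mul_inv_cancel]
    rfl
  obtain ⟨j, hj⟩ := IsPGroup.iff_orderOf.1 hV v
  have h1 : orderOf v ∣ Nat.card A := Nat.card_eq_fintype_card (α := A) ▸ orderOf_dvd_of_pow_eq_one hpow
  rcases Nat.eq_zero_or_pos j with rfl | hjpos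
  · exact hv (orderOf_eq_one_iff.1 (by simpa using hj))
  · obtain ⟨a, ha⟩ := exists_prime_orderOf_dvd_card' (G := A) p
      ((dvd_pow_self p hjpos.ne').trans (hj ▸ h1))
    exact hAp a.1 a.2 (by rw [Subgroup.orderOf_coe, ha])

/-- The Sylow `p`-subgroups of a `CC` group are abelian. -/
theorem CC.sylow_comm [Fact p.Prime] (h : CC H p q s) (P : Sylow p H) :
    ∀ a ∈ (P : Subgroup H), ∀ b ∈ (P : Subgroup H), Commute a b := by
  classical
  by_contra hne
  push Not at hne
  obtain ⟨a, ha, b, hb, hab⟩ := hne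
  have hp := h.prime
  -- a maximal intersection of two Sylow subgroups
  have ha1 : a ≠ 1 := fun e => hab (e ▸ Commute.one_left b)
  obtain ⟨S0, hS0⟩ := h.exists_sylow ha1 (pow_of_mem_sylow ha)
  haveI := Fintype.ofFinite (Sylow p H)
  let X : Finset (Sylow p H × Sylow p H) :=
    Finset.univ.filter fun x => x.1 ≠ x.2 ∧ (x.1 : Subgroup H) ⊓ (x.2 : Subgroup H) ≠ ⊥
  have hX : X.Nonempty := by
    refine ⟨(P, S0), Finset.mem_filter.2 ⟨Finset.mem_univ _, ?_, ?_⟩⟩
    · intro e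
      have hPS : P = S0 := e
      subst hPS
      have hb' : b ∈ Subgroup.centralizer ({a} : Set H) := hS0 ▸ hb
      exact hab (Subgroup.mem_centralizer_singleton_iff.1 hb').symm
    · intro e
      exact ha1 (Subgroup.mem_bot.1 (e ▸ ⟨ha, hS0 ▸ Subgroup.mem_centralizer_singleton_iff.2 rfl⟩ :
        a ∈ (⊥ : Subgroup H)))
  obtain ⟨⟨P1, P2⟩, hmem, hmax⟩ := X.exists_max_image
    (fun x => Nat.card ↥((x.1 : Subgroup H) ⊓ (x.2 : Subgroup H))) hX
  obtain ⟨-, h12, hDne⟩ := Finset.mem_filter.1 hmem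
  set D : Subgroup H := (P1 : Subgroup H) ⊓ (P2 : Subgroup H) with hD
  have hbig : ∀ T U : Sylow p H, D < (T : Subgroup H) ⊓ (U : Subgroup H) → T = U := by
    intro T U hlt
    by_contra hTU
    have := hmax (T, U) (Finset.mem_filter.2 ⟨Finset.mem_univ _, hTU, fun e =>
      hDne (le_bot_iff.1 (e ▸ hlt.le))⟩)
    exact hlt.ne (Subgroup.eq_of_le_of_card_ge hlt.le this)
  have hsub : ∀ T U : Sylow p H, (T : Subgroup H) ≤ (U : Subgroup H) → T = U := fun T U hle =>
    Sylow.ext (Subgroup.eq_of_le_of_card_ge hle (by rw [h.sylow_card, h.sylow_card]))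
  have hlt1 : D < (P1 : Subgroup H) :=
    lt_of_le_of_ne inf_le_left fun e => h12 (hsub P1 P2 (e ▸ inf_le_right))
  have hlt2 : D < (P2 : Subgroup H) :=
    lt_of_le_of_ne inf_le_right fun e => h12 (hsub P2 P1 (e ▸ inf_le_left)).symm
  set V : Subgroup H := D ⊓ Subgroup.centralizer (D : Set H) with hV
  have hDp : IsPGroup p D := P1.2.to_le inf_le_left
  have hVD : V ≤ D := inf_le_left
  haveI : Nontrivial D := (Subgroup.nontrivial_iff_ne_bot D).2 hDne
  obtain ⟨v0, hv0V, hv01⟩ : ∃ v ∈ V, v ≠ 1 := by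
    haveI := hDp.center_nontrivial
    obtain ⟨⟨z, hz⟩, hz1⟩ := exists_ne (1 : Subgroup.center D)
    exact ⟨z.1, ⟨z.2, Subgroup.mem_centralizer_iff.2 fun x hx =>
      congrArg Subtype.val (Subgroup.mem_center_iff.1 hz ⟨x, hx⟩)⟩,
      fun e => hz1 (Subtype.ext (Subtype.ext e))⟩
  have hDv : ∀ v ∈ V, D ≤ Subgroup.centralizer ({v} : Set H) := fun v hv x hx =>
    Subgroup.mem_centralizer_singleton_iff.2 (Subgroup.mem_centralizer_iff.1 hv.2 x hx)
  have hVpow : ∀ v ∈ V, ∃ k : ℕ, orderOf v = p ^ k := fun v hv =>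
    pow_of_mem_sylow (P := P1) (hVD hv).1
  set N := Subgroup.normalizer (D : Set H) with hN
  have hNV : N ≤ Subgroup.normalizer (V : Set H) := by
    have hN' : ∀ g ∈ N, ∀ x ∈ V, g * x * g⁻¹ ∈ V := fun g hg x hx => by
      refine ⟨(Subgroup.mem_normalizer_iff.1 hg x).1 hx.1, Subgroup.mem_centralizer_iff.2 fun y hy => ?_⟩
      have := Subgroup.mem_centralizer_iff.1 hx.2 _ ((Subgroup.mem_normalizer_iff''.1 hg y).1 hy)
      calc y * (g * x * g⁻¹) = g * (g⁻¹ * y * g * x) * g⁻¹ := by group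
        _ = g * (x * (g⁻¹ * y * g)) * g⁻¹ := by rw [this]
        _ = g * x * g⁻¹ * y := by group
    intro g hg
    refine Subgroup.mem_normalizer_iff.2 fun x => ⟨hN' g hg x, fun hx => ?_⟩
    simpa [mul_assoc] using hN' g⁻¹ (inv_mem hg) _ hx
  -- two different centralisers
  obtain ⟨v1, hv1, v2, hv2, h1, h2, hne12⟩ : ∃ v1 ∈ V, ∃ v2 ∈ V, v1 ≠ 1 ∧ v2 ≠ 1 ∧
      Subgroup.centralizer ({v1} : Set H) ≠ Subgroup.centralizer {v2} := by
    by_contra hall
    push Not at hall
    obtain ⟨T, hT⟩ := h.exists_sylow hv01 (hVpow v0 hv0V)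
    have hnorm : ∀ U : Sylow p H, D < (U : Subgroup H) → U = T := by
      intro U hU
      obtain ⟨g, hgU, hgD, hgN⟩ := exists_normalizer_of_lt hU
      have hgT : g ∈ Subgroup.normalizer ((T : Subgroup H) : Set H) := by
        have hfwd : ∀ g' ∈ N, ∀ x ∈ (T : Subgroup H), g' * x * g'⁻¹ ∈ (T : Subgroup H) := by
          intro g' hg' x hx
          rw [hT] at hx ⊢
          have hw : g' * v0 * g'⁻¹ ∈ V :=
            (Subgroup.mem_normalizer_iff.1 (hNV hg') v0).1 hv0V
          have hw1 : g' * v0 * g'⁻¹ ≠ 1 := fun e => hv01 (by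
            rwa [conj_eq_one_iff] at e)
          rw [← hall _ hw v0 hv0V hw1 hv01]
          have h' := Subgroup.mem_centralizer_singleton_iff.1 hx
          refine Subgroup.mem_centralizer_singleton_iff.2 ?_
          calc g' * x * g'⁻¹ * (g' * v0 * g'⁻¹) = g' * (x * v0) * g'⁻¹ := by group
            _ = g' * (v0 * x) * g'⁻¹ := by rw [h']
            _ = g' * v0 * g'⁻¹ * (g' * x * g'⁻¹) := by group
        refine Subgroup.mem_normalizer_iff.2 fun x => ⟨hfwd g hgN x, fun hx => ?_⟩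
        simpa [mul_assoc] using hfwd g⁻¹ (inv_mem hgN) _ hx
      have hgT' : g ∈ (T : Subgroup H) := by
        have hz : IsPGroup p (Subgroup.zpowers g) := U.2.to_le (Subgroup.zpowers_le.2 hgU)
        have := hz.inf_normalizer_sylow T
        exact (this ▸ ⟨Subgroup.mem_zpowers g, hgT⟩ : g ∈ Subgroup.zpowers g ⊓ (T : Subgroup H)).2
      refine hbig U T (lt_of_le_of_ne (le_inf hU.le (hT ▸ hDv v0 hv0V)) fun e => hgD ?_)
      rw [e]; exact ⟨hgU, hgT'⟩
    exact h12 ((hnorm P1 hlt1).trans (hnorm P2 hlt2).symm)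
  obtain ⟨T1, hT1⟩ := h.exists_sylow h1 (hVpow v1 hv1)
  obtain ⟨T2, hT2⟩ := h.exists_sylow h2 (hVpow v2 hv2)
  have hDT : D = (T1 : Subgroup H) ⊓ (T2 : Subgroup H) := by
    by_contra hne
    have hlt := lt_of_le_of_ne (le_inf (hT1 ▸ hDv v1 hv1) (hT2 ▸ hDv v2 hv2) :
      D ≤ (T1 : Subgroup H) ⊓ (T2 : Subgroup H)) hne
    exact hne12 (by rw [← hT1, ← hT2, hbig T1 T2 hlt])
  -- the action on `V`
  letI : CommGroup V := { (inferInstance : Group V) with
    mul_comm := fun x y => Subtype.ext (Subgroup.mem_centralizer_iff.1 y.2.2 x.1 x.2.1) }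
  let φ : N →* MulAut V := V.normalizerMonoidHom.comp (Subgroup.inclusion hNV)
  have hφ : ∀ (g : N) (v : V), ((φ g v : V) : H) = g.1 * v.1 * g.1⁻¹ := fun g v => rfl
  have hker : ∀ g : N, φ g = 1 ↔ g.1 ∈ D := by
    intro g
    constructor
    · intro e
      have hc : ∀ v ∈ V, g.1 ∈ Subgroup.centralizer ({v} : Set H) := fun v hv => by
        have h' := hφ g ⟨v, hv⟩
        rw [e] at h'
        refine Subgroup.mem_centralizer_singleton_iff.2 (mul_inv_eq_iff_eq_mul.1 h'.symm)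
      rw [hDT]
      exact ⟨hT1 ▸ hc v1 hv1, hT2 ▸ hc v2 hv2⟩
    · intro hg
      refine MulEquiv.ext fun v => Subtype.ext ?_
      rw [hφ, show g.1 * v.1 = v.1 * g.1 from Subgroup.mem_centralizer_iff.1 v.2.2 g.1 hg,
        mul_inv_cancel_right]
      rfl
  haveI : Nontrivial V := ⟨⟨⟨v0, hv0V⟩, 1, fun e => hv01 (congrArg Subtype.val e)⟩⟩
  have hdvd : ∀ g : N, orderOf (φ g) ∣ orderOf g.1 := fun g => by
    rw [Subgroup.orderOf_coe]; exact orderOf_map_dvd φ g
  refine false_of_action (p := p) (V := V) (hDp.to_le hVD) φ.range ?_ ?_ ?_ ?_ ?_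
  · rintro _ ⟨g, rfl⟩
    rcases h.pow_or_coprime g.1 with ⟨k, hk⟩ | hk
    · left
      obtain ⟨j, -, hj⟩ := (Nat.dvd_prime_pow hp).1 (hk ▸ hdvd g)
      exact ⟨j, hj⟩
    · exact Or.inr fun hd => hk (hd.trans (hdvd g))
  · rintro _ ⟨g, rfl⟩ hgp hg1 v hv
    by_contra hv1'
    have hmem : g.1 ∈ Subgroup.centralizer ({v.1} : Set H) := by
      refine Subgroup.mem_centralizer_singleton_iff.2 (mul_inv_eq_iff_eq_mul.1 ?_)
      rw [← hφ, hv]
    obtain ⟨T, hT⟩ := h.exists_sylow (fun e => hv1' (Subtype.ext e)) (hVpow v.1 v.2)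
    obtain ⟨k, hk⟩ := pow_of_mem_sylow (P := T) (hT ▸ hmem)
    obtain ⟨j, -, hj⟩ := (Nat.dvd_prime_pow hp).1 (hk ▸ hdvd g)
    rcases Nat.eq_zero_or_pos j with rfl | hjpos
    · exact hg1 (orderOf_eq_one_iff.1 (by simpa using hj))
    · exact hgp (hj ▸ dvd_pow_self p hjpos.ne')
  · rintro _ ⟨g, rfl⟩ hord v
    have hone : ∀ u : N, φ u = φ g → (u.1 : H) ^ p = 1 := by
      intro u hu
      have hup : (u.1 : H) ^ p ∈ D := by
        refine (hker (u ^ p)).1 ?_
        rw [map_pow, hu, ← hord, pow_orderOf_eq_one]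
      by_contra hne
      obtain ⟨k, hk⟩ := pow_of_mem_sylow (P := P1) hup.1
      have huk : ∃ k, orderOf u.1 = p ^ k := by
        rcases h.pow_or_coprime u.1 with hh | hh
        · exact hh
        · exfalso
          refine hh ?_
          rw [← hord, ← hu]; exact hdvd u
      have hu1 : u.1 ≠ 1 := fun e => hne (by rw [e, one_pow])
      have hle : Subgroup.centralizer ({u.1} : Set H) ≤ Subgroup.centralizer {u.1 ^ p} := fun x hx =>
        Subgroup.mem_centralizer_singleton_iff.2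
          ((show Commute x u.1 from Subgroup.mem_centralizer_singleton_iff.1 hx).pow_right p).eq
      have heq := Subgroup.eq_of_le_of_card_ge hle
        (by rw [h.cent _ hu1 huk, h.cent _ hne ⟨k, hk⟩])
      have h1' : φ u = 1 := by
        refine MulEquiv.ext fun x => Subtype.ext ?_
        have hx : x.1 ∈ Subgroup.centralizer ({u.1} : Set H) := by
          rw [heq]
          exact Subgroup.mem_centralizer_singleton_iff.2
            (Subgroup.mem_centralizer_iff.1 x.2.2 _ hup).symm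
        rw [hφ, (Subgroup.mem_centralizer_singleton_iff.1 hx).symm, mul_inv_cancel_right]
        rfl
      rw [← hu, h1', orderOf_one] at hord
      exact hp.one_lt.ne hord
    have hg1 := hone g rfl
    have hDN : D ≤ N := Subgroup.le_normalizer
    let u : N := ⟨v.1, hDN (hVD v.2)⟩ * g
    have hu := hone u (by rw [map_mul, (hker _).2 (hVD v.2), one_mul])
    have hform : ∀ n : ℕ, (v.1 * g.1) ^ n =
        ((∏ i ∈ Finset.range n, (φ g ^ i) v : V) : H) * g.1 ^ n := by
      intro n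
      induction n with
      | zero => simp
      | succ n ih =>
        rw [pow_succ, ih, Finset.prod_range_succ, Subgroup.coe_mul, ← map_pow, hφ, SubmonoidClass.coe_pow]
        group
    have := hform p
    rw [hg1, mul_one] at this
    exact Subtype.ext (this.symm.trans hu)
  · intro Q hQ hQp
    set M : Subgroup N := Q.comap φ.rangeRestrict with hM
    have hMp : IsPGroup p M := hQp.comap_of_ker_isPGroup _ (by
      intro x
      obtain ⟨k, hk⟩ := hDp ⟨x.1.1, (hker x.1).1 (congrArg Subtype.val x.2)⟩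
      exact ⟨k, Subtype.ext (Subtype.ext (by simpa using congrArg Subtype.val hk))⟩)
    have hcase : ∀ U : Sylow p H, D < (U : Subgroup H) → ∀ m ∈ M, m.1 ∈ (U : Subgroup H) := by
      intro U hU m hm
      haveI : M.Normal := hQ.comap _
      set U' : Subgroup N := (U : Subgroup H).subgroupOf N
      have hU' : IsPGroup p U' := U.2.comap_of_injective _ (Subgroup.subtype_injective _)
      have hMU : IsPGroup p (M ⊔ U' : Subgroup N) :=
        IsPGroup.to_sup_of_normal_left hMp hU'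
      obtain ⟨W, hW⟩ := IsPGroup.exists_le_sylow (hMU.map N.subtype)
      obtain ⟨g, hgU, hgD, hgN⟩ := exists_normalizer_of_lt hU
      have hgW : g ∈ (W : Subgroup H) :=
        hW ⟨⟨g, hgN⟩, (le_sup_right : U' ≤ M ⊔ U') hgU, rfl⟩
      have hDW : D ≤ (W : Subgroup H) := fun x hx =>
        hW ⟨⟨x, Subgroup.le_normalizer hx⟩, (le_sup_right : U' ≤ M ⊔ U') (hU.le hx), rfl⟩
      have hUW : U = W := hbig U W (lt_of_le_of_ne (le_inf hU.le hDW) fun e => hgD (by
        rw [e]; exact ⟨hgU, hgW⟩))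
      rw [hUW]
      exact hW ⟨m, (le_sup_left : M ≤ M ⊔ U') hm, rfl⟩
    rw [Subgroup.eq_bot_iff_forall]
    rintro ⟨_, m, rfl⟩ hmQ
    exact Subtype.ext ((hker m).2 ⟨hcase P1 hlt1 m hmQ, hcase P2 hlt2 m hmQ⟩)
  · obtain ⟨g, hgP, hgD, hgN⟩ := exists_normalizer_of_lt hlt1
    have hne : φ ⟨g, hgN⟩ ≠ 1 := fun e => hgD ((hker _).1 e)
    obtain ⟨k, hk⟩ := pow_of_mem_sylow (P := P1) hgP
    obtain ⟨j, -, hj⟩ := (Nat.dvd_prime_pow hp).1 (hk ▸ hdvd ⟨g, hgN⟩)
    have hjpos : 0 < j := Nat.pos_of_ne_zero fun e => hne (orderOf_eq_one_iff.1 (by rw [hj, e, pow_zero]))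
    refine ⟨φ ⟨g, hgN⟩ ^ p ^ (j - 1), pow_mem (MonoidHom.mem_range.2 ⟨_, rfl⟩) _, ?_⟩
    rw [orderOf_pow_of_dvd (pow_ne_zero _ hp.pos.ne') (hj ▸ pow_dvd_pow p (Nat.sub_le j 1)), hj,
      Nat.pow_div (Nat.sub_le j 1) hp.pos, show j - (j - 1) = 1 by omega, pow_one]

end Cfsg.Agent.H44.ClassSizes
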